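import Mathlib.Data.Nat.Prime.Basic
import Mathlib.Algebra.BigOperators.Fin
import Mathlib.Tactic.IntervalCases
import Mathlib.Tactic.NormNum
import Mathlib.GroupTheory.OrderOfElement

/-!
# `1 + q + ⋯ + q⁶` is `1` modulo `6` (helper149, S2452, row `E₈(q)`)
-/

set_option autoImplicit false

namespace Cfsg.Agent.H149.TW

theorem sum_mod (q : ℕ) : (∑ a ∈ Finset.range 7, q ^ a) % 6 = 1 := by
  have h1 : (∑ a ∈ Finset.range 7, q ^ a) % 6 = (∑ a ∈ Finset.range 7, (q % 6) ^ a) % 6 := by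
    simp only [Finset.sum_range_succ, Finset.sum_range_zero]
    simp [Nat.add_mod, Nat.pow_mod]
  have h2 : q % 6 < 6 := Nat.mod_lt _ (by norm_num)
  rw [h1]
  interval_cases h : (q % 6) <;> norm_num [Finset.sum_range_succ]

theorem coprime_six {q r : ℕ} (h : r ∣ ∑ a ∈ Finset.range 7, q ^ a) : Nat.Coprime r 6 := by
  have h1 : Nat.Coprime (∑ a ∈ Finset.range 7, q ^ a) 6 := by
    rw [Nat.coprime_iff_gcd_eq_one, Nat.gcd_comm, Nat.gcd_rec, sum_mod]
    norm_num
  exact Nat.Coprime.coprime_dvd_left h h1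

/-- an element `≠ 1` whose power `r` is one, `r` prime -/
theorem order_of {G : Type*} [Group G] {x : G} {r : ℕ} (hr : r.Prime) (h : x ^ r = 1) (hx : x ≠ 1) :
    orderOf x = r := by
  have : Fact r.Prime := ⟨hr⟩
  exact orderOf_eq_prime h hx

end Cfsg.Agent.H149.TW
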